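import Cfsg.Agent.H649.VanU.Base

/-!
# The field `psu` of the rows of S4555 and S4559 (helper649)

* `psu_vOrdP` : `VOrdP p K` for `K ≅ PSU_n(q)`, `p ≠ char`, `p` odd or `n ≥ 4`;
* `psu_odd`, `psu_pow` : the fields.
-/

set_option autoImplicit false

open scoped ComplexConjugate

universe u

namespace Cfsg.Agent.H649.VanU

open Cfsg Cfsg.Agent.LieClassical.HermBasic Cfsg.Agent.LieClassical.HermSiegel Matrix Module
open Cfsg.Agent.H113.PSU.Descent
open Cfsg.Agent.H112.VU Cfsg.Agent.H206.VanPSU Cfsg.Agent.H620.PNorm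
open Cfsg.Agent.H186 Cfsg.Agent.ClassicalGeometry.GUBasic Cfsg.Agent.H103.PGUUpper Cfsg.Agent.H103.UniBlock

section Elt

variable {F : Type u} [Field F] [Fintype F] {q : ℕ}

/-- The elements of `SU_n(q)` defined by a matrix of determinant `1` preserving an invertible form. -/
theorem exists_su {d : ℕ} (hF : Fintype.card F = q ^ 2) {ι : Type*} [Fintype ι]
    [DecidableEq ι] (hι : Fintype.card ι = d) (C : (Matrix ι ι F)ˣ) (hC : Uni q (C : Matrix ι ι F))
    (hdet : (C : Matrix ι ι F).det = 1) :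
    ∃ (x : SU d F q) (y : GL (Fin d) F) (e : Fin d ≃ ι), ∀ k : ℕ, mat (x ^ k) =
      (y : Matrix (Fin d) (Fin d) F) * (((C ^ k : (Matrix ι ι F)ˣ) : Matrix ι ι F).submatrix e e) *
        ((y⁻¹ : GL (Fin d) F) : Matrix (Fin d) (Fin d) F) := by
  classical
  let e : Fin d ≃ ι := Fintype.equivOfCardEq (by rw [Fintype.card_fin, hι])
  let R : Matrix ι ι F →* Matrix (Fin d) (Fin d) F :=
    { toFun := fun M => M.submatrix e e
      map_one' := Matrix.submatrix_one_equiv e
      map_mul' := fun M N => (Matrix.submatrix_mul_equiv M N e e e).symm }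
  have hR : ∀ M : Matrix ι ι F, R M = M.submatrix e e := fun M => rfl
  obtain ⟨D, hD⟩ : ∃ D : GL (Fin d) F, (D : Matrix (Fin d) (Fin d) F) = R (C : Matrix ι ι F) :=
    ⟨Units.map R C, rfl⟩
  have hUni : Uni q (D : Matrix (Fin d) (Fin d) F) := by
    rw [hD]; exact uni_submatrix e hC
  obtain ⟨x, hx, hx1⟩ := hUni
  obtain ⟨y, ⟨y, rfl⟩, M, hM1, hM2⟩ := exists_isometry hF _ x hx D.isUnit hx1
  let M' : GL (Fin d) F := ⟨M, st q M, mul_eq_one_comm.1 hM1, hM1⟩
  have hM' : M' ∈ Cfsg.GU d F q := (mem_GU_iff_st hF M').2 hM1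
  have hconj : M' = y * D * y⁻¹ := by
    rw [eq_mul_inv_iff_mul_eq]
    apply Units.ext
    exact hM2.symm
  have hMdet : M.det = 1 := by
    have h1 : (M' : Matrix (Fin d) (Fin d) F) = (y : Matrix (Fin d) (Fin d) F) * D *
        ((y⁻¹ : GL (Fin d) F) : Matrix (Fin d) (Fin d) F) := congrArg Units.val hconj
    have h2 : (y : Matrix (Fin d) (Fin d) F).det *
        ((y⁻¹ : GL (Fin d) F) : Matrix (Fin d) (Fin d) F).det = 1 := by
      rw [← Matrix.det_mul, Units.mul_inv, Matrix.det_one]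
    have h3 : M.det = (M' : Matrix (Fin d) (Fin d) F).det := rfl
    rw [h3, h1, Matrix.det_mul, Matrix.det_mul, hD, hR, Matrix.det_submatrix_equiv_self, hdet, mul_one, h2]
  let S : SpecialLinearGroup (Fin d) F := ⟨M, hMdet⟩
  have hS : S ∈ Cfsg.SU d F q := hM'
  refine ⟨⟨S, hS⟩, y, e, fun k => ?_⟩
  have h1 : mat ((⟨S, hS⟩ : SU d F q) ^ k) = ((M' ^ k : GL (Fin d) F) : Matrix (Fin d) (Fin d) F) := by
    change (((S ^ k : SpecialLinearGroup (Fin d) F)) : Matrix (Fin d) (Fin d) F) = _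
    rw [Matrix.SpecialLinearGroup.coe_pow, Units.val_pow_eq_pow_val]
  rw [h1, hconj, conj_pow, Units.val_mul, Units.val_mul, Units.val_pow_eq_pow_val, hD, ← map_pow, hR,
    Units.val_pow_eq_pow_val]

/-- An element of order `p ∤ q + 1` fixing a space of dimension at least `n - e`. -/
theorem exists_elt' {n p e : ℕ} {r : ℕ} [Fact r.Prime] [CharP F r] (hF : Fintype.card F = q ^ 2) (hp : p.Prime)
    (he : 1 ≤ e) (hen : e + 2 ≤ n) (hd : p ∣ un q e) (hq : ¬ p ∣ q + 1) : ∃ x : SU n F q, x ∈ XY p := by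
  classical
  obtain ⟨ι, _, _, _, hι, A, hA, hAo⟩ := exists_semisimple (F := F) (r := r) hF he (N := p) hd
  have hco : Nat.Coprime p (q + 1) := (Nat.Prime.coprime_iff_not_dvd hp).2 hq
  have hdet := det_eq_one hF hA (pow_orderOf_eq_one A) (by rw [hAo]; exact hco)
  let C : (Matrix (ι ⊕ Fin (n - e)) (ι ⊕ Fin (n - e)) F)ˣ := bs A 1
  obtain ⟨x, y, f, hx⟩ := exists_su (d := n) hF (ι := ι ⊕ Fin (n - e)) (by
    rw [Fintype.card_sum, hι, Fintype.card_fin]; omega) C (uni_bs hF hA (uni_one hF)) (by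
    rw [det_bs, hdet, Units.val_one, Matrix.det_one, mul_one])
  have hCo : orderOf C = p := by
    rw [bs_orderOf, hAo, orderOf_one, Nat.lcm_one_right]
  have hyy : (y : Matrix (Fin n) (Fin n) F) * ((y⁻¹ : GL (Fin n) F) : Matrix (Fin n) (Fin n) F) = 1 :=
    Units.mul_inv y
  have hyy' : ((y⁻¹ : GL (Fin n) F) : Matrix (Fin n) (Fin n) F) * (y : Matrix (Fin n) (Fin n) F) = 1 :=
    Units.inv_mul y
  refine ⟨x, ?_, ?_, ?_⟩
  · apply mat_injective
    rw [hx, ← hCo, pow_orderOf_eq_one, Units.val_one, Matrix.submatrix_one_equiv, mul_one, hyy, mat_one]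
  · intro h
    have h1 := hx 1
    rw [pow_one, h, mat_one, pow_one] at h1
    have h2 : (C : Matrix (ι ⊕ Fin (n - e)) (ι ⊕ Fin (n - e)) F).submatrix f f = 1 := by
      calc (C : Matrix (ι ⊕ Fin (n - e)) (ι ⊕ Fin (n - e)) F).submatrix f f
          = (((y⁻¹ : GL (Fin n) F) : Matrix (Fin n) (Fin n) F) * (y : Matrix (Fin n) (Fin n) F)) *
            (C : Matrix (ι ⊕ Fin (n - e)) (ι ⊕ Fin (n - e)) F).submatrix f f *
            (((y⁻¹ : GL (Fin n) F) : Matrix (Fin n) (Fin n) F) * (y : Matrix (Fin n) (Fin n) F)) := by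
              rw [hyy', one_mul, mul_one]
        _ = ((y⁻¹ : GL (Fin n) F) : Matrix (Fin n) (Fin n) F) * ((y : Matrix (Fin n) (Fin n) F) *
            (C : Matrix (ι ⊕ Fin (n - e)) (ι ⊕ Fin (n - e)) F).submatrix f f *
            ((y⁻¹ : GL (Fin n) F) : Matrix (Fin n) (Fin n) F)) * (y : Matrix (Fin n) (Fin n) F) := by
              simp only [mul_assoc]
        _ = 1 := by rw [← h1, mul_one, hyy']
    have h3 := congrArg (fun N : Matrix (Fin n) (Fin n) F => N.submatrix f.symm f.symm) h2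
    simp only [Matrix.submatrix_submatrix, Equiv.self_comp_symm, Matrix.submatrix_id_id,
      Matrix.submatrix_one_equiv] at h3
    have h4 : C = 1 := Units.ext h3
    rw [h4, orderOf_one] at hCo
    exact hp.one_lt.ne hCo
  · -- the fixed space
    let L : (Fin (n - e) → F) →ₗ[F] (Fin n → F) :=
      { toFun := fun v => (y : Matrix (Fin n) (Fin n) F) *ᵥ (fun i => Sum.elim (0 : ι → F) v (f i))
        map_add' := fun v w => by
          rw [← Matrix.mulVec_add]
          congr 1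
          funext i
          rcases hi : f i with j | j
          · simp [hi]
          · simp [hi]
        map_smul' := fun c v => by
          rw [RingHom.id_apply, ← Matrix.mulVec_smul]
          congr 1
          funext i
          rcases hi : f i with j | j
          · simp [hi]
          · simp [hi] }
    have hL : ∀ v, L v = (y : Matrix (Fin n) (Fin n) F) *ᵥ (fun i => Sum.elim (0 : ι → F) v (f i)) := fun v => rfl
    have hfix : ∀ v, L v ∈ fixS x := by
      intro v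
      rw [mem_fixS]
      have h1 := hx 1
      rw [pow_one, pow_one] at h1
      rw [act_def, h1, hL, ← Matrix.mulVec_mulVec, Matrix.mulVec_mulVec _ _ (y : Matrix (Fin n) (Fin n) F), hyy',
        Matrix.one_mulVec, ← Matrix.mulVec_mulVec]
      congr 1
      rw [Matrix.submatrix_mulVec_equiv]
      have h2 : ((fun i => Sum.elim (0 : ι → F) v (f i)) ∘ f.symm) = Sum.elim (0 : ι → F) v := by
        funext i
        simp
      rw [h2]
      have h3 : (C : Matrix (ι ⊕ Fin (n - e)) (ι ⊕ Fin (n - e)) F) *ᵥ Sum.elim (0 : ι → F) v =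
          Sum.elim (0 : ι → F) v := by
        change (bs A 1 : (Matrix (ι ⊕ Fin (n - e)) (ι ⊕ Fin (n - e)) F)ˣ).1 *ᵥ _ = _
        rw [coe_bs, Matrix.fromBlocks_mulVec]
        simp
      rw [h3]
      rfl
    have hinj : Function.Injective (L.codRestrict (fixS x) hfix) := by
      intro v w h
      have h1 : L v = L w := congrArg Subtype.val h
      rw [hL, hL] at h1
      have h2 := congrArg (fun z => ((y⁻¹ : GL (Fin n) F) : Matrix (Fin n) (Fin n) F) *ᵥ z) h1
      simp only [Matrix.mulVec_mulVec, hyy', Matrix.one_mulVec] at h2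
      funext j
      have h3 := congrFun h2 (f.symm (Sum.inr j))
      simpa using h3
    have h1 := LinearMap.finrank_le_finrank_of_injective hinj
    rw [Module.finrank_fin_fun] at h1
    omega

end Elt

section Row

variable {F : Type} [Field F] [Fintype F] {q n p : ℕ}

theorem order_psu' (hF : Fintype.card F = q ^ 2) (hn : 3 ≤ n) (hp : p.Prime) {x : SU n F q}
    (hx : x ∈ XY p) : orderOf (QuotientGroup.mk x : PSU n F q) = p := by
  have := Fact.mk hp
  apply orderOf_eq_prime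
  · rw [← QuotientGroup.mk_pow, hx.1, QuotientGroup.mk_one]
  · intro h
    rw [QuotientGroup.eq_one_iff] at h
    obtain ⟨c, hcn, hcq, rfl⟩ := (Cfsg.Agent.LieClassical.SUBasic.mem_center_SU_iff hF hn x).1 h
    have hact : ∀ v, act (Cfsg.Agent.LieClassical.SUBasic.suScalar q c hcn hcq) v = c • v := fun v =>
      Cfsg.Agent.ClassicalGeometry.PSUAutBasic.act_suScalar hcn hcq v
    have h2 := hx.2.2
    have h3 : fixS (Cfsg.Agent.LieClassical.SUBasic.suScalar q c hcn hcq) ≠ ⊥ := by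
      intro h0
      rw [h0, finrank_bot] at h2
      omega
    obtain ⟨v, hv, hv0⟩ := (Submodule.ne_bot_iff _).1 h3
    rw [mem_fixS, hact] at hv
    have hc1 : c = 1 := by
      have h4 : (c - 1) • v = 0 := by rw [sub_smul, one_smul, hv, sub_self]
      exact sub_eq_zero.1 ((smul_eq_zero.1 h4).resolve_right hv0)
    apply hx.2.1
    apply ext_act
    intro w
    rw [hact, hc1, one_smul, act_one]

/-- **`PSU_n(q)`, `n ≥ 4`, `p ∤ q² - 1`** -/
theorem row_four_big [hp : Fact p.Prime] {r : ℕ} [hr : Fact r.Prime] [CharP F r] (hF : Fintype.card F = q ^ 2)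
    (hn : 4 ≤ n) (hpr : p ≠ r) (hd2 : ¬ p ∣ q ^ 2 - 1) (hd : p ∣ Nat.card (PSU n F q)) :
    VOrdP p (PSU n F q) := by
  have hq : 2 ≤ q := Cfsg.Agent.ClassicalGeometry.GUBasic.two_le hF
  have hpq : ¬ p ∣ q := by
    obtain ⟨s, hs0, hs⟩ := FiniteField.card F r
    intro h
    have h1 : p ∣ r ^ (s : ℕ) := by rw [← hs, hF]; exact h.trans (dvd_pow_self q two_ne_zero)
    exact hpr ((Nat.prime_dvd_prime_iff_eq hp.out hr.out).1 (hp.out.dvd_of_dvd_pow h1))
  have hpF : (p : F) ≠ 0 := by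
    rw [Ne, CharP.cast_eq_zero_iff F r]
    intro h
    exact hpr ((Nat.prime_dvd_prime_iff_eq hr.out hp.out).1 h).symm
  have hd1 : ¬ p ∣ q + 1 := by
    intro h
    apply hd2
    have h1 : q ^ 2 - 1 = (q + 1) * (q - 1) := by
      have := Nat.sq_sub_sq q 1
      rwa [one_pow] at this
    rw [h1]
    exact Dvd.dvd.mul_right h _
  have he := ee_le hF (n := n) (by omega) hpq hd
  have hpos := ee_pos (l := p) hpq
  by_cases h2 : ee q p + 2 ≤ n
  · obtain ⟨x, hx⟩ := exists_elt' (F := F) (r := r) (n := n) (p := p) (e := ee q p) hF hp.out (by omega) h2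
      ((dvd_uu_iff (by omega) _).2 dvd_rfl) hd1
    refine ⟨QuotientGroup.mk x, order_psu' hF (by omega) hp.out hx, ?_⟩
    obtain ⟨k, n', hk, hn', rfl⟩ : ∃ k n', 2 ≤ k ∧ n' ≤ 1 ∧ n = k + (k + n') :=
      ⟨n / 2, n % 2, by omega, by omega, by omega⟩
    obtain ⟨χ, hχ, hz, h0⟩ := exists_chi' hF hk hn'
    refine vz_psu' hF hn hpF hχ hz (fun y hy => ?_) x hx
    have h3 := codim_ge hF hp.out hpF hd2 hy.1 hy.2.1
    exact h0 p hpF y hy.1 (by have := hy.2.2; omega) (by omega)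
  · obtain ⟨θ, hθ⟩ := hasDZ_large (l := p) hF hn hpq (by omega)
    exact Cfsg.Agent.H620.PNRows.vOrdP_of_kill ⟨θ, fun g hg => Cfsg.Agent.H713.irr_zero_of_singular hθ hg⟩ hd

/-- **`PSU_3(q)`, `p ∤ q² - 1`** -/
theorem row_three_big [hp : Fact p.Prime] {r : ℕ} [hr : Fact r.Prime] [CharP F r] (hF : Fintype.card F = q ^ 2)
    (hq : 2 < q) (hpr : p ≠ r) (hd2 : ¬ p ∣ q ^ 2 - 1) (hd : p ∣ Nat.card (PSU 3 F q)) :
    VOrdP p (PSU 3 F q) := by
  have hpq : ¬ p ∣ q := by
    obtain ⟨s, hs0, hs⟩ := FiniteField.card F r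
    intro h
    have h1 : p ∣ r ^ (s : ℕ) := by rw [← hs, hF]; exact h.trans (dvd_pow_self q two_ne_zero)
    exact hpr ((Nat.prime_dvd_prime_iff_eq hp.out hr.out).1 (hp.out.dvd_of_dvd_pow h1))
  obtain ⟨σ, hσ, π, S⟩ := Cfsg.Agent.H904.PVU.exists_setup hF hq
  obtain ⟨y, hy⟩ := exists_prime_orderOf_dvd_card' (G := PSU 3 F q) p hd
  obtain ⟨x, rfl⟩ := S.surj y
  refine ⟨π x, hy, (S.vz_of_not_mem (x := x) fun g hg => ?_).1⟩
  have h1 : orderOf (g⁻¹ * x * g) ∣ q ^ 3 * (q ^ 2 - 1) := by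
    rw [← Cfsg.Agent.H212.U3.Model.card_borel (σ := σ) hF S.hs]
    have h2 := orderOf_dvd_natCard (⟨g⁻¹ * x * g, hg⟩ : Cfsg.Agent.UThreeGen.MatGroup.borel σ)
    rwa [← Subgroup.orderOf_coe] at h2
  have h2 : orderOf (g⁻¹ * x * g) = orderOf x := by
    have h3 : g⁻¹ * x * g = MulAut.conj g⁻¹ x := by simp [MulAut.conj_apply]
    rw [h3, MulEquiv.orderOf_eq]
  rw [h2] at h1
  have h3 : p ∣ orderOf x := by
    rw [← hy]
    exact orderOf_map_dvd π x
  rcases (Nat.Prime.dvd_mul hp.out).1 (h3.trans h1) with h4 | h4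
  · exact hpq (hp.out.dvd_of_dvd_pow h4)
  · exact hd2 h4

end Row

/-- **the field `psu`, `VOrdP`** -/
theorem psu_vOrdP (K : Type u) [Group K] [Finite K] [IsSimpleGroup K] (p r : ℕ) (hp : p.Prime) (hp2 : p ≠ 2)
    (hr : r.Prime) (hpr : p ≠ r) (h : IsPSUChar r K) (hd : p ∣ Nat.card K) : VOrdP p K := by
  obtain ⟨F, _, _, _, n, q, hF, hn, hnq, ⟨e⟩⟩ := h
  have : Fact r.Prime := ⟨hr⟩
  have : Fact p.Prime := ⟨hp⟩
  refine VOrdP.mulEquiv ?_ e.symm
  have hd' : p ∣ Nat.card (PSU n F q) := by rwa [← Nat.card_congr e.toEquiv]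
  have hq : 2 ≤ q := Cfsg.Agent.ClassicalGeometry.GUBasic.two_le hF
  by_cases h2 : p ∣ q ^ 2 - 1
  · rcases Nat.lt_or_ge n 4 with h4 | h4
    · obtain rfl : n = 3 := by omega
      exact Cfsg.Agent.H904.PVU.vOrdP hF (by omega) hp hp2 h2
    · exact Cfsg.Agent.H112.VU.psu_vOrdP hF h4 hp h2
  · rcases Nat.lt_or_ge n 4 with h4 | h4
    · obtain rfl : n = 3 := by omega
      exact row_three_big (r := r) hF (by omega) hpr h2 hd'
    · exact row_four_big (r := r) hF h4 hpr h2 hd'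

/-- **the field `psu`, `VPow`** -/
theorem psu_vPow (K : Type u) [Group K] [Finite K] [IsSimpleGroup K] (p r : ℕ) (hp : p.Prime)
    (hr : r.Prime) (hpr : p ≠ r) (h : IsPSUChar r K) (hd : p ∣ Nat.card K) : VPow p K := by
  by_cases hp2 : p = 2
  · subst hp2
    obtain ⟨F, _, _, _, n, q, hF, hn, hnq, ⟨e⟩⟩ := h
    have : Fact r.Prime := ⟨hr⟩
    refine VPow.mulEquiv ?_ e.symm
    have hq : 2 ≤ q := Cfsg.Agent.ClassicalGeometry.GUBasic.two_le hF
    have hodd : Odd q := by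
      obtain ⟨s, hs0, hs⟩ := FiniteField.card F r
      rw [hF] at hs
      rw [← Nat.not_even_iff_odd, even_iff_two_dvd]
      intro h1
      have h2 : 2 ∣ r ^ (s : ℕ) := by rw [← hs]; exact h1.trans (dvd_pow_self q two_ne_zero)
      exact hpr ((Nat.prime_dvd_prime_iff_eq Nat.prime_two hr).1 (Nat.prime_two.dvd_of_dvd_pow h2))
    rcases Nat.lt_or_ge n 4 with h4 | h4
    · obtain rfl : n = 3 := by omega
      exact Cfsg.Agent.H904.PVU.vPow_two hF (by omega) hodd
    · refine VOrdP.vPow (Cfsg.Agent.H112.VU.psu_vOrdP hF h4 Nat.prime_two ?_)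
      have h8 : 8 ∣ q ^ 2 - 1 := Nat.eight_dvd_sq_sub_one_of_odd hodd
      exact Dvd.dvd.trans (by norm_num) h8
  · exact (psu_vOrdP K p r hp hp2 hr hpr h hd).vPow

end Cfsg.Agent.H649.VanU
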