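import Cfsg.Agent.H112.VU.Row
import Cfsg.Agent.H206.VanPSU.Arith
import Cfsg.Agent.H904.PV.U3
import Cfsg.Agent.H620.PNRows

/-!
# The rows `PSU_n(q)` of S4555 and S4559, `p ∤ q² - 1` (helper649)

* `vz_psu'` : the descent for a set of elements of `SU_n(q)` with a fixed vector;
* `exists_chi'` : the character;
* `codim_ge` : an element of order `p ∤ q² - 1` has a fixed space of codimension at least two;
* `exists_su` : elements of `SU_n(q)` from block matrices.
-/

set_option autoImplicit false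

open scoped ComplexConjugate

universe u

namespace Cfsg.Agent.H649.VanU

open Cfsg Cfsg.Agent.LieClassical.HermBasic Cfsg.Agent.LieClassical.HermSiegel Matrix Module
open Cfsg.Agent.H113.PSU.Descent Cfsg.Agent.H477.HC Cfsg.Agent.H477.HC.CForm Cfsg.Agent.H53.HC
open Cfsg.Agent.H139.Cusp Cfsg.Agent.H720.PV Cfsg.Agent.Characters Cfsg.Agent.H345.CusU
open Cfsg.Agent.H112.VU
open Cfsg.Agent.ClassicalGeometry.PSUAutCount (gm semiConj toAut herm_gm act_semiConj gm_inv_mulVec gm_mulVec_inv
  gm_mul gm_inj)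

variable {F : Type u} [Field F] [Fintype F] {q n : ℕ}

/-- `x^GU = x^SU` -/
theorem class_eq' (hF : Fintype.card F = q ^ 2) {m : ℕ} (hm : (m : F) ≠ 0) {x : SU n F q}
    (hx : x ^ m = 1) (h0 : fixS x ≠ ⊥) (g : GU n F q) :
    ∃ k : NN n F q, g * (eSU n F q x : GU n F q) * g⁻¹ = (k : GU n F q) * (eSU n F q x : GU n F q) * (k : GU n F q)⁻¹ := by
  obtain ⟨u, hu, hu0⟩ := exists_anis hF hm hx h0
  have hdg : (gm g).det ^ (q + 1) = 1 := Cfsg.Agent.ClassicalGeometry.GUBasic.det_pow hF (herm_gm g)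
  have hdg0 : (gm g).det ≠ 0 := by
    intro h
    rw [h, zero_pow (Nat.succ_ne_zero q)] at hdg
    exact zero_ne_one hdg
  obtain ⟨A, hA, hAv⟩ := exists_qrefl hF hu0 (l := (gm g).det⁻¹) (by rw [inv_pow, hdg, inv_one])
  have hcomm : A * (eSU n F q x : GU n F q) = (eSU n F q x : GU n F q) * A := by
    apply gm_inj
    rw [gm_mul, gm_mul]
    apply Matrix.ext_iff_mulVec.2
    intro v
    have e1 : ∀ w, gm (eSU n F q x : GU n F q) *ᵥ w = act x w := fun w => eSU_val x w
    rw [← mulVec_mulVec, ← mulVec_mulVec, e1, e1, hAv, hAv, act_add, act_smul, hu]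
    have h1 := herm_act x v u
    rw [hu] at h1
    rw [h1]
  have hk : g * A ∈ NN n F q := by
    change Matrix.GeneralLinearGroup.det ((g * A : GU n F q) : GL (Fin n) F) = 1
    apply Units.ext
    change (gm (g * A)).det = 1
    rw [gm_mul, det_mul, hA, mul_inv_cancel₀ hdg0]
  refine ⟨⟨g * A, hk⟩, ?_⟩
  change g * (eSU n F q x : GU n F q) * g⁻¹ = g * A * (eSU n F q x : GU n F q) * (g * A)⁻¹
  rw [mul_assoc g A, hcomm]
  group

/-- the elements of order dividing `m`, not one, fixing a space of dimension at least two -/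
def XY (m : ℕ) : Set (SU n F q) := {x | x ^ m = 1 ∧ x ≠ 1 ∧ 2 ≤ finrank F (fixS x)}

theorem XY_semi {m : ℕ} (A : GU n F q) (ρ : F ≃+* F) {x : SU n F q} (hx : x ∈ XY m) :
    semiConj A ρ x ∈ XY m := by
  refine ⟨?_, ?_, ?_⟩
  · rw [← map_pow, hx.1, map_one]
  · intro h
    have h1 := finrank_fixS_semi A ρ x
    have h2 : fixS (1 : SU n F q) = ⊤ := by
      rw [eq_top_iff]
      intro v _
      rw [mem_fixS, act_one]
    rw [h, h2, finrank_top] at h1
    apply hx.2.1
    apply ext_act
    intro v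
    have h3 : fixS x = ⊤ := Submodule.eq_top_of_finrank_eq h1.symm
    have h4 : v ∈ fixS x := by rw [h3]; exact Submodule.mem_top
    rw [mem_fixS.1 h4, act_one]
  · rw [finrank_fixS_semi]
    exact hx.2.2

/-- **the descent** -/
theorem vz_psu' (hF : Fintype.card F = q ^ 2) (hn : 4 ≤ n) {m : ℕ} (hm : (m : F) ≠ 0) {χ : GU n F q → ℂ}
    (hχ : IsIrrCharacter (GU n F q) χ)
    (hz : ∀ (z : GU n F q) (c : F), c ^ (q + 1) = 1 →
      (∀ v, ((z : GL (Fin n) F) : Matrix (Fin n) (Fin n) F).mulVec v = c • v) → χ z = χ 1)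
    (h0 : ∀ x : SU n F q, x ∈ XY m → χ (eSU n F q x : GU n F q) = 0) :
    ∀ x : SU n F q, x ∈ XY m → H713.VZ (PSU n F q) (QuotientGroup.mk x) := by
  intro x hx
  let E : PSU n F q ≃* NN n F q ⧸ Subgroup.center (NN n F q) :=
    Cfsg.Agent.LieClassical.FieldTransfer.centralQuotientCongr (eSU n F q)
  have hE : ∀ y : SU n F q, E (QuotientGroup.mk y) = QuotientGroup.mk (eSU n F q y) := fun y => rfl
  have h1 := Cfsg.Agent.H649.VanC.vz_down (NN n F q) hχ (fun z hz' => ?_)
    {y : NN n F q | (eSU n F q).symm y ∈ XY m} (fun y hy g => ?_) (fun y hy => ?_) (fun α y hy => ?_)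
    (eSU n F q x) (by
      change (eSU n F q).symm (eSU n F q x) ∈ XY m
      rw [MulEquiv.symm_apply_apply]; exact hx)
  · have h2 := h1.mulEquiv E.symm
    rw [← hE, MulEquiv.symm_apply_apply] at h2
    exact h2
  · obtain ⟨y, rfl⟩ := (eSU n F q).surjective z
    have hy : y ∈ Subgroup.center (SU n F q) := by
      rw [Subgroup.mem_center_iff] at hz' ⊢
      intro g
      apply (eSU n F q).injective
      rw [map_mul, map_mul, hz']
    obtain ⟨c, hcn, hcq, rfl⟩ := (Cfsg.Agent.LieClassical.SUBasic.mem_center_SU_iff hF (by omega) y).1 hy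
    refine hz _ c hcq fun v => ?_
    rw [eSU_val]
    exact Cfsg.Agent.ClassicalGeometry.PSUAutBasic.act_suScalar hcn hcq v
  · obtain ⟨y, rfl⟩ := (eSU n F q).surjective y
    rw [Set.mem_ofPred_eq, MulEquiv.symm_apply_apply] at hy
    refine class_eq' hF hm hy.1 ?_ g
    intro hb
    have := hy.2.2
    rw [hb, finrank_bot] at this
    omega
  · obtain ⟨y, rfl⟩ := (eSU n F q).surjective y
    rw [Set.mem_ofPred_eq, MulEquiv.symm_apply_apply] at hy
    exact h0 y hy
  · obtain ⟨y, rfl⟩ := (eSU n F q).surjective y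
    rw [Set.mem_ofPred_eq, MulEquiv.symm_apply_apply] at hy
    obtain ⟨A, ρ, hα⟩ := Cfsg.Agent.ClassicalGeometry.PSUAutMain.exists_toAut hF (by omega) (by omega)
      ((E.trans α).trans E.symm : MulAut (PSU n F q))
    refine ⟨eSU n F q (semiConj A ρ y), ?_, ?_⟩
    · rw [Set.mem_ofPred_eq, MulEquiv.symm_apply_apply]
      exact XY_semi A ρ hy
    · have h2 : ((E.trans α).trans E.symm : MulAut (PSU n F q)) (QuotientGroup.mk y) =
          toAut A ρ (QuotientGroup.mk y) := by rw [hα]
      change E.symm (α (E (QuotientGroup.mk y))) = QuotientGroup.mk (semiConj A ρ y) at h2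
      rw [hE] at h2
      have h3 := congrArg E h2
      rw [MulEquiv.apply_symm_apply, hE] at h3
      exact h3

/-- **the character** -/
theorem exists_chi' (hF : Fintype.card F = q ^ 2) {k n' : ℕ} (hk : 2 ≤ k) (hn' : n' ≤ 1) :
    ∃ χ : GU (k + (k + n')) F q → ℂ, IsIrrCharacter _ χ ∧
      (∀ (z : GU (k + (k + n')) F q) (c : F), c ^ (q + 1) = 1 →
        (∀ v, ((z : GL (Fin (k + (k + n'))) F) : Matrix (Fin (k + (k + n'))) (Fin (k + (k + n'))) F).mulVec v = c • v) →
          χ z = χ 1) ∧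
      ∀ (m : ℕ), (m : F) ≠ 0 → ∀ x : SU (k + (k + n')) F q, x ^ m = 1 →
        n' < finrank F (fixS x) → finrank F (fixS x) < 2 * k →
        χ (eSU (k + (k + n')) F q x : GU (k + (k + n')) F q) = 0 := by
  classical
  have hq : Nat.card F = q ^ 2 := by rw [Nat.card_eq_fintype_card, hF]
  obtain ⟨p, hp⟩ := CharP.exists F
  have hpr : p.Prime := (CharP.char_is_prime_or_zero F p).resolve_right (CharP.char_ne_zero_of_finite F p)
  have : Fact p.Prime := ⟨hpr⟩
  obtain ⟨c, hc, hv⟩ := exists_cusU_v hq k hk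
  obtain ⟨⟨W₀, hW₀⟩, -⟩ := hermF_frame (p := p) hq k n'
  obtain ⟨χ, hχ, -, hχz, hχ0⟩ := exists_char_v (hermF F hq (k + (k + n'))) hW₀ hc hv
  refine ⟨χ ∘ (isoGU hq (k + (k + n'))).toMonoidHom,
    Core.isIrr_comp (isoGU hq _).toMonoidHom (isoGU hq _).surjective hχ, fun z c hcq hz => ?_,
      fun m hm x hx hx1 hx2 => ?_⟩
  · change χ (isoGU hq _ z) = χ (isoGU hq _ 1)
    rw [map_one]
    have hc0 : c ≠ 0 := by
      rintro rfl
      rw [zero_pow (Nat.succ_ne_zero q)] at hcq
      exact zero_ne_one hcq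
    refine hχz _ (Units.mk0 c hc0) ?_ fun v => ?_
    · apply Units.ext
      rw [Units.val_pow_eq_pow_val, Units.val_mk0, Units.val_one, hcq]
    · rw [isoGU_apply, hz v, Units.val_mk0]
  · change χ (isoGU hq _ (eSU _ F q x : GU _ F q)) = 0
    set s : (hermF F hq (k + (k + n'))).iso := isoGU hq _ (eSU _ F q x : GU _ F q) with hs
    have hsv : ∀ v, (s : (Fin (k + (k + n')) → F) ≃ₗ[F] (Fin (k + (k + n')) → F)) v = act x v := fun v => rfl
    have hsm : (s : (Fin (k + (k + n')) → F) ≃ₗ[F] (Fin (k + (k + n')) → F)) ^ m = 1 := by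
      have h1 : s ^ m = 1 := by
        rw [hs, ← map_pow, ← Subgroup.coe_pow, ← map_pow, hx, map_one, Subgroup.coe_one, map_one]
      have h2 := congrArg Subtype.val h1
      rwa [Subgroup.coe_pow, Subgroup.coe_one] at h2
    have hker : LinearMap.ker (((s : (Fin (k + (k + n')) → F) ≃ₗ[F] (Fin (k + (k + n')) → F)) :
        (Fin (k + (k + n')) → F) →ₗ[F] (Fin (k + (k + n')) → F)) - LinearMap.id) = fixS x := by
      ext v
      rw [LinearMap.mem_ker, LinearMap.sub_apply, LinearMap.id_apply, sub_eq_zero]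
      exact Iff.rfl
    have h1 := finrank_fix_add_mov (s : (Fin (k + (k + n')) → F) ≃ₗ[F] (Fin (k + (k + n')) → F))
    rw [hker, Module.finrank_fin_fun] at h1
    refine hχ0 s m hm hsm (by omega) (exists_moved_of_dim _ hm hsm ?_)
    rw [Module.finrank_fin_fun]
    omega

/-- an element of prime order `p ∤ q² - 1` has a fixed space of codimension at least two -/
theorem codim_ge (hF : Fintype.card F = q ^ 2) {p : ℕ} (hp : p.Prime) (hpF : (p : F) ≠ 0) (hd : ¬ p ∣ q ^ 2 - 1)
    {x : SU n F q} (hx : x ^ p = 1) (hx1 : x ≠ 1) : finrank F (fixS x) + 2 ≤ n := by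
  classical
  by_contra hcon
  push Not at hcon
  have hle : finrank F (fixS x) ≤ n := by
    have := Submodule.finrank_le (fixS x)
    rwa [Module.finrank_fin_fun] at this
  obtain ⟨w, hw⟩ : ∃ w, act x w ≠ w := by
    by_contra h
    push Not at h
    exact hx1 (ext_act fun v => by rw [h v, act_one])
  -- the complement
  have htop : fixS x ⊔ Submodule.span F {w} = ⊤ := by
    apply Submodule.eq_top_of_finrank_eq
    rw [Module.finrank_fin_fun]
    have h1 : fixS x < fixS x ⊔ Submodule.span F {w} := by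
      refine lt_of_le_of_ne le_sup_left fun h => hw ?_
      have h2 : w ∈ fixS x := by
        rw [h]
        exact (le_sup_right : Submodule.span F {w} ≤ _) (Submodule.mem_span_singleton_self w)
      exact mem_fixS.1 h2
    have h2 := Submodule.finrank_lt_finrank_of_lt h1
    have h3 := Submodule.finrank_le (fixS x ⊔ Submodule.span F {w})
    rw [Module.finrank_fin_fun] at h3
    omega
  have h1 : act x w ∈ fixS x ⊔ Submodule.span F {w} := by rw [htop]; exact Submodule.mem_top
  obtain ⟨w', hw', y, hy, hwy⟩ := Submodule.mem_sup.1 h1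
  obtain ⟨c, rfl⟩ := Submodule.mem_span_singleton.1 hy
  rw [mem_fixS] at hw'
  have hpow : ∀ j : ℕ, act (x ^ j) w = c ^ j • w + (∑ i ∈ Finset.range j, c ^ i) • w' := by
    intro j
    induction j with
    | zero => rw [pow_zero, act_one, pow_zero, one_smul, Finset.sum_range_zero, zero_smul, add_zero]
    | succ j ih =>
      rw [pow_succ', act_mul, ih, act_add, act_smul, act_smul, ← hwy, hw', Finset.sum_range_succ, pow_succ]
      rw [smul_add, smul_smul, add_smul]
      abel
  have hwfix : w ∉ fixS x := hw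
  -- `c ^ p = 1`
  have h2 := hpow p
  rw [hx, act_one] at h2
  have hc : c ^ p = 1 := by
    by_contra hc
    apply hwfix
    have h3 : (1 - c ^ p) • w = (∑ i ∈ Finset.range p, c ^ i) • w' := by
      rw [sub_smul, one_smul]
      nth_rewrite 1 [h2]
      abel
    have h4 : (1 - c ^ p) ≠ 0 := fun h => hc (sub_eq_zero.1 h).symm
    have h5 : w = (1 - c ^ p)⁻¹ • ((∑ i ∈ Finset.range p, c ^ i) • w') := by
      rw [← h3, smul_smul, inv_mul_cancel₀ h4, one_smul]
    rw [h5]
    exact (fixS x).smul_mem _ ((fixS x).smul_mem _ hw')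
  have hc1 : c = 1 := by
    have hc0 : c ≠ 0 := by
      rintro rfl
      rw [zero_pow hp.ne_zero] at hc
      exact zero_ne_one hc
    let cu : Fˣ := Units.mk0 c hc0
    have h3 : cu ^ p = 1 := by
      apply Units.ext
      rw [Units.val_pow_eq_pow_val, Units.val_mk0, Units.val_one, hc]
    have h4 : orderOf cu ∣ q ^ 2 - 1 := by
      rw [← hF, ← Fintype.card_units]
      exact orderOf_dvd_card
    rcases (Nat.dvd_prime hp).1 (orderOf_dvd_of_pow_eq_one h3) with h5 | h5
    · rw [orderOf_eq_one_iff] at h5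
      exact congrArg Units.val h5
    · rw [h5] at h4
      exact absurd h4 hd
  rw [hc1] at h2
  simp only [one_pow, one_smul, Finset.sum_const, Finset.card_range, nsmul_eq_mul, mul_one] at h2
  have h3 : (p : F) • w' = 0 := by
    have h4 : w + 0 = w + (p : F) • w' := by rw [add_zero]; exact h2
    exact (add_left_cancel h4).symm
  have h4 : w' = 0 := (smul_eq_zero.1 h3).resolve_left hpF
  apply hw
  rw [← hwy, h4, hc1, zero_add, one_smul]

end Cfsg.Agent.H649.VanU
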